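import Mathlib.Algebra.Homology.Refinements
import Mathlib.Algebra.Homology.Embedding.CochainComplex
import Mathlib.Algebra.Homology.ShortComplex.HomologicalComplex
import Mathlib.Algebra.Homology.Additive
import Mathlib.Algebra.Homology.QuasiIso
import Groth.Agent.FlatCxBase.BoundedFlat
import Groth.Agent.DerivedCoh.KFlat.Basic

/-!
# Left resolutions by a class of objects with enough members

Bounded above complexes have termwise surjective resolutions by bounded above complexes with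
terms in the class; resolutions may be extended along maps, with termwise split inclusions.
-/

set_option autoImplicit false

universe v u

open CategoryTheory CategoryTheory.Limits HomologicalComplex

namespace Groth.DerivedCoh.LeftRes

variable {A : Type u} [Category.{v} A] [Abelian A] (P : A → Prop) (K : CochainComplex A ℤ)

/-- One term of a resolution, with its cycles. -/
structure Piece (i : ℤ) where
  /-- the term -/
  obj : A
  /-- the augmentation -/
  ρ : obj ⟶ K.X i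
  /-- the cycles -/
  Z : A
  /-- the inclusion of cycles -/
  ι : Z ⟶ obj
  mem : P obj
  epi : Epi ρ
  cyc : ∀ ⦃T : A⦄ (t : T ⟶ K.X i), t ≫ K.d i (i + 1) = 0 →
    ∃ (T' : A) (π : T' ⟶ T) (_ : Epi π) (z : T' ⟶ Z), π ≫ t = z ≫ ι ≫ ρ

variable {P K}

/-- Consecutive terms of a resolution. -/
def Good (i : ℤ) (s : Piece P K i) (s' : Piece P K (i + 1)) : Prop :=
  ∃ δ : s.obj ⟶ s'.Z, δ ≫ s'.ι ≫ s'.ρ = s.ρ ≫ K.d i (i + 1) ∧
    s.ι ≫ δ ≫ s'.ι = 0 ∧
    (∀ ⦃T : A⦄ (z : T ⟶ s.obj), z ≫ δ ≫ s'.ι = 0 → ∃ w : T ⟶ s.Z, w ≫ s.ι = z) ∧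
    (∀ ⦃T : A⦄ (z : T ⟶ s'.Z) (w : T ⟶ K.X i), z ≫ s'.ι ≫ s'.ρ = w ≫ K.d i (i + 1) →
      ∃ (T' : A) (π : T' ⟶ T) (_ : Epi π) (l : T' ⟶ s.obj), π ≫ z = l ≫ δ)

lemma exists_good (hP : ∀ X : A, ∃ (Y : A) (π : Y ⟶ X), P Y ∧ Epi π) (i : ℤ)
    (s' : Piece P K (i + 1)) : ∃ s : Piece P K i, Good i s s' := by
  obtain ⟨Y, p, hY, hp⟩ := hP (pullback (s'.ι ≫ s'.ρ) (K.d i (i + 1)))
  let δ : Y ⟶ s'.Z := p ≫ pullback.fst _ _
  let ρ : Y ⟶ K.X i := p ≫ pullback.snd _ _
  have hw : δ ≫ s'.ι ≫ s'.ρ = ρ ≫ K.d i (i + 1) := by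
    simp only [δ, ρ, Category.assoc, pullback.condition]
  have hlift : ∀ ⦃T : A⦄ (z : T ⟶ s'.Z) (w : T ⟶ K.X i), z ≫ s'.ι ≫ s'.ρ = w ≫ K.d i (i + 1) →
      ∃ (T' : A) (π : T' ⟶ T) (_ : Epi π) (l : T' ⟶ Y), π ≫ z = l ≫ δ ∧ π ≫ w = l ≫ ρ := by
    intro T z w h
    obtain ⟨T', π, hπ, l, hl⟩ := surjective_up_to_refinements_of_epi p (pullback.lift z w h)
    refine ⟨T', π, hπ, l, ?_, ?_⟩
    · have h1 := hl =≫ pullback.fst _ _
      rw [Category.assoc, Category.assoc, pullback.lift_fst] at h1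
      exact h1
    · have h1 := hl =≫ pullback.snd _ _
      rw [Category.assoc, Category.assoc, pullback.lift_snd] at h1
      exact h1
  have hcyc : ∀ ⦃T : A⦄ (t : T ⟶ K.X i), t ≫ K.d i (i + 1) = 0 →
      ∃ (T' : A) (π : T' ⟶ T) (_ : Epi π) (z : T' ⟶ kernel (δ ≫ s'.ι)),
        π ≫ t = z ≫ kernel.ι (δ ≫ s'.ι) ≫ ρ := by
    intro T t ht
    obtain ⟨T', π, hπ, l, h1, h2⟩ := hlift (0 : T ⟶ s'.Z) t (by rw [zero_comp, ht])
    refine ⟨T', π, hπ, kernel.lift _ l (by rw [← Category.assoc, ← h1, comp_zero, zero_comp]), ?_⟩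
    rw [h2, kernel.lift_ι_assoc]
  have hepi : Epi ρ := by
    rw [epi_iff_surjective_up_to_refinements]
    intro T t
    obtain ⟨T₁, π₁, hπ₁, z, hz⟩ := s'.cyc (t ≫ K.d i (i + 1)) (by simp)
    obtain ⟨T₂, π₂, hπ₂, l, -, h2⟩ := hlift z (π₁ ≫ t) (by rw [← hz, Category.assoc])
    exact ⟨T₂, π₂ ≫ π₁, epi_comp _ _, l, by rw [Category.assoc, h2]⟩
  refine ⟨⟨Y, ρ, kernel (δ ≫ s'.ι), kernel.ι _, hY, hepi, hcyc⟩, δ, hw, kernel.condition _, ?_, ?_⟩
  · exact fun T z hz => ⟨kernel.lift _ z hz, kernel.lift_ι _ _ _⟩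
  · intro T z w h
    obtain ⟨T', π, hπ, l, h1, -⟩ := hlift z w h
    exact ⟨T', π, hπ, l, h1⟩

/-- A bounded above complex has a termwise surjective resolution by a bounded above complex with
terms in the class. -/
theorem exists_resolution (hP0 : ∃ Z : A, IsZero Z ∧ P Z)
    (hP : ∀ X : A, ∃ (Y : A) (π : Y ⟶ X), P Y ∧ Epi π) (b : ℤ) [K.IsStrictlyLE b] :
    ∃ (M : CochainComplex A ℤ) (_ : M.IsStrictlyLE b) (s : M ⟶ K),
      QuasiIso s ∧ (∀ i, Epi (s.f i)) ∧ ∀ i, P (M.X i) := by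
  obtain ⟨Z, hZ, hPZ⟩ := hP0
  let zeroPiece : ∀ i, b < i → Piece P K i := fun i hi =>
    ⟨Z, 0, Z, 0, hPZ, ⟨fun a c _ => (K.isZero_of_isStrictlyLE b i hi).eq_of_src a c⟩,
      fun T t _ => ⟨T, 𝟙 T, inferInstance, 0, (K.isZero_of_isStrictlyLE b i hi).eq_of_tgt _ _⟩⟩
  choose next hnext using exists_good (K := K) hP
  let T : ∀ (k : ℕ) (i : ℤ), b - k < i → Piece P K i := fun k => Nat.rec
    (fun i hi => zeroPiece i (by simpa using hi))
    (fun k S i hi => if h : b - k < i then S i h else next i (S (i + 1) (by push_cast at hi; lia))) k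
  let S : ∀ i, Piece P K i := fun i => T (b + 1 - i).toNat i (by lia)
  have hstable : ∀ (k : ℕ) (i : ℤ) (h : b - k < i), T k i h = S i := by
    intro k
    induction k with
    | zero =>
      intro i h
      have h0 : (b + 1 - i).toNat = 0 := by simp at h; lia
      change T 0 i h = T (b + 1 - i).toNat i _
      simp only [h0]
    | succ k ih =>
      intro i h
      by_cases h' : b - k < i
      · exact (dif_pos h').trans (ih i h')
      · have h0 : (b + 1 - i).toNat = k + 1 := by push_cast at h; lia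
        change T (k + 1) i h = T (b + 1 - i).toNat i _
        simp only [h0]
  have hSzero : ∀ i (hi : b < i), S i = zeroPiece i hi := fun i hi =>
    (hstable 0 i (by simpa using hi)).symm
  have hS : ∀ i, Good i (S i) (S (i + 1)) := by
    intro i
    by_cases hi : b < i
    · rw [hSzero i hi, hSzero (i + 1) (by lia)]
      exact ⟨0, (K.isZero_of_isStrictlyLE b (i + 1) (by lia)).eq_of_tgt _ _, by simp,
        fun T z _ => ⟨z, hZ.eq_of_tgt _ _⟩,
        fun T z _ _ => ⟨T, 𝟙 T, inferInstance, 0, hZ.eq_of_tgt _ _⟩⟩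
    · obtain ⟨k, rfl⟩ : ∃ k : ℕ, i = b - k := ⟨(b - i).toNat, by lia⟩
      rw [← hstable (k + 1) (b - k) (by push_cast; lia), ← hstable k (b - k + 1) (by lia)]
      have : T (k + 1) (b - k) (by push_cast; lia) =
          next (b - k) (T k (b - k + 1) (by lia)) := dif_neg (by lia)
      rw [this]
      exact hnext _ _
  choose δ hd hzero hker hinj using hS
  let d : ∀ i, (S i).obj ⟶ (S (i + 1)).obj := fun i => δ i ≫ (S (i + 1)).ι
  have hdd : ∀ i, d i ≫ d (i + 1) = 0 := fun i => by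
    rw [Category.assoc, hzero, comp_zero]
  let M : CochainComplex A ℤ := CochainComplex.of (fun i => (S i).obj) d hdd
  have hMd : ∀ i, M.d i (i + 1) = d i := fun i => CochainComplex.of_d (fun i => (S i).obj) d i
  let s : M ⟶ K :=
    { f := fun i => (S i).ρ
      comm' := fun i i' h => by
        obtain rfl : i + 1 = i' := h
        rw [hMd, Category.assoc]
        exact (hd i).symm }
  refine ⟨M, ?_, s, ⟨fun i => ?_⟩, fun i => (S i).epi, fun i => (S i).mem⟩
  · rw [CochainComplex.isStrictlyLE_iff]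
    intro i hi
    change IsZero (S i).obj
    rw [hSzero i hi]
    exact hZ
  · rw [quasiIsoAt_iff_isIso_homologyMap]
    have : Mono (homologyMap s i) := by
      obtain ⟨i, rfl⟩ : ∃ i' : ℤ, i = i' + 1 := ⟨i - 1, by lia⟩
      rw [mono_homologyMap_iff_up_to_refinements s i (i + 1) (i + 1 + 1) (by simp) (by simp)]
      intro T x hx y hy
      rw [hMd] at hx
      obtain ⟨w, hw⟩ := hker (i + 1) x hx
      obtain ⟨T', π, hπ, l, hl⟩ := hinj i w y (by rw [reassoc_of% hw]; exact hy)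
      refine ⟨T', π, hπ, l, ?_⟩
      rw [hMd, ← hw, reassoc_of% hl]
    have : Epi (homologyMap s i) := by
      rw [epi_homologyMap_iff_up_to_refinements s (i - 1) i (i + 1) (by simp) (by simp)]
      intro T y hy
      obtain ⟨T', π, hπ, z, hz⟩ := (S i).cyc y hy
      refine ⟨T', π, hπ, z ≫ (S i).ι, ?_, 0, ?_⟩
      · rw [hMd, Category.assoc, hzero, comp_zero]
      · rw [zero_comp, add_zero, Category.assoc]
        exact hz
    exact isIso_of_mono_of_epi _

open CochainComplex in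
/-- A map from a complex with terms in the class to a bounded above complex factors as a termwise
split inclusion, with cokernel in the class, followed by a surjective quasi-isomorphism. -/
theorem exists_extension (hP0 : ∃ Z : A, IsZero Z ∧ P Z)
    (hP : ∀ X : A, ∃ (Y : A) (π : Y ⟶ X), P Y ∧ Epi π)
    (hsum : ∀ {X Y : A}, P X → P Y → P (X ⊞ Y)) (hiso : ∀ {X Y : A}, (X ≅ Y) → P X → P Y)
    {Q : CochainComplex A ℤ} (hQ : ∀ i, P (Q.X i)) (g : Q ⟶ K)
    (a : ℤ) [Q.IsStrictlyLE a] (b : ℤ) [K.IsStrictlyLE b] :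
    ∃ (Q' : CochainComplex A ℤ) (j : Q ⟶ Q') (π : Q' ⟶ K), j ≫ π = g ∧ QuasiIso π ∧
      (∀ i, Epi (π.f i)) ∧ (∃ c : ℤ, Q'.IsStrictlyLE c) ∧ (∀ i, P (Q'.X i)) ∧
      ∀ i, (∃ r : Q'.X i ⟶ Q.X i, j.f i ≫ r = 𝟙 _) ∧ P (cokernel (j.f i)) := by
  obtain ⟨R₀, hR₀, π₀, hπ₀, hπ₀e, hR₀P⟩ := exists_resolution (K := K) hP0 hP b
  let E := Q ⊞ R₀
  let eE : ∀ i, E.X i ≅ Q.X i ⊞ R₀.X i := fun i => biprodXIso Q R₀ i
  have hEP : ∀ i, P (E.X i) := fun i => hiso (eE i).symm (hsum (hQ i) (hR₀P i))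
  let p : E ⟶ K := biprod.desc g π₀
  have hpe : ∀ i, Epi (p.f i) := fun i => by
    have : Epi ((biprod.inr : R₀ ⟶ E).f i ≫ p.f i) := by
      rw [← comp_f, biprod.inr_desc]; exact hπ₀e i
    exact epi_of_epi ((biprod.inr : R₀ ⟶ E).f i) _
  let c := max a b
  have hEzero : ∀ i, c < i → IsZero (E.X i) := fun i hi =>
    ((biprod_isZero_iff _ _).2 ⟨Q.isZero_of_isStrictlyLE a i (by lia),
      R₀.isZero_of_isStrictlyLE b i (by lia)⟩).of_iso (eE i)
  haveI : ∀ i, Mono ((kernel.ι p).f i) := fun i => inferInstanceAs (Mono ((HomologicalComplex.eval A _ i).map (kernel.ι p)))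
  haveI : (kernel p).IsStrictlyLE c := by
    rw [CochainComplex.isStrictlyLE_iff]
    exact fun i hi => IsZero.of_mono ((kernel.ι p).f i) (hEzero i hi)
  obtain ⟨R, hR, ρ, hρ, -, hRP⟩ := exists_resolution (K := kernel p) hP0 hP c
  let χ : R ⟶ E := ρ ≫ kernel.ι p
  let Q' := mappingCone χ
  let π : Q' ⟶ K := mappingCone.desc χ 0 p (by simp [χ])
  have hπinr : mappingCone.inr χ ≫ π = p := mappingCone.inr_desc _ _ _ _
  have hπe : ∀ i, Epi (π.f i) := fun i => by
    have : Epi ((mappingCone.inr χ).f i ≫ π.f i) := by rw [← comp_f, hπinr]; exact hpe i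
    exact epi_of_epi ((mappingCone.inr χ).f i) _
  -- the kernel of `π` is the cone of `ρ`
  let m : mappingCone ρ ⟶ Q' := mappingCone.map ρ χ (𝟙 R) (kernel.ι p) (by simp [χ])
  have hm : m ≫ π = 0 := by
    ext i
    refine mappingCone.ext_from _ (i + 1) i rfl ?_ ?_
    · simp [m, π, mappingCone.map]
    · simp only [HomologicalComplex.comp_f, HomologicalComplex.zero_f, comp_zero]
      simp [m, π, mappingCone.map, ← comp_f_assoc, ← comp_f, kernel.condition p]
  have hS : (ShortComplex.mk m π hm).ShortExact := by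
    refine HomologicalComplex.shortExact_of_degreewise_shortExact _ fun i => ?_
    have hker : IsLimit (KernelFork.ofι ((kernel.ι p).f i)
        (show (kernel.ι p).f i ≫ p.f i = 0 by rw [← comp_f, kernel.condition, zero_f])) :=
      KernelFork.mapIsLimit _ (kernelIsKernel p) (HomologicalComplex.eval A (ComplexShape.up ℤ) i)
    have hfst : m.f i ≫ (mappingCone.fst χ).1.v i (i + 1) rfl =
        (mappingCone.fst ρ).1.v i (i + 1) rfl := by
      refine mappingCone.ext_from _ (i + 1) i rfl ?_ ?_ <;> simp [m, mappingCone.map]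
    have hsnd : m.f i ≫ (mappingCone.snd χ).v i i (add_zero i) =
        (mappingCone.snd ρ).v i i (add_zero i) ≫ (kernel.ι p).f i := by
      refine mappingCone.ext_from _ (i + 1) i rfl ?_ ?_ <;> simp [m, mappingCone.map]
    have hπ : π.f i = (mappingCone.snd χ).v i i (add_zero i) ≫ p.f i := by
      refine mappingCone.ext_from _ (i + 1) i rfl ?_ ?_ <;> simp [π]
    haveI : Mono (m.f i) := ⟨fun {T} x y h => by
      refine (mappingCone.ext_to_iff _ i (i + 1) rfl x y).2 ⟨?_, ?_⟩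
      · rw [← hfst, reassoc_of% h]
      · rw [← cancel_mono ((kernel.ι p).f i), Category.assoc, Category.assoc, ← hsnd, reassoc_of% h]⟩
    refine { exact := ?_, mono_f := this, epi_g := hπe i }
    rw [ShortComplex.exact_iff_exact_up_to_refinements]
    intro T (x : T ⟶ (mappingCone χ).X i) (hx : x ≫ π.f i = 0)
    change ∃ (T' : A) (π' : T' ⟶ T) (_ : Epi π') (x₁ : T' ⟶ (mappingCone ρ).X i), π' ≫ x = x₁ ≫ m.f i
    rw [hπ, ← Category.assoc] at hx
    obtain ⟨z, hz⟩ := KernelFork.IsLimit.lift' hker _ hx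
    refine ⟨T, 𝟙 T, inferInstance,
      (x ≫ (mappingCone.fst χ).1.v i (i + 1) rfl) ≫ (mappingCone.inl ρ).v (i + 1) i (by lia) +
        z ≫ (mappingCone.inr ρ).f i, ?_⟩
    refine (mappingCone.ext_to_iff _ i (i + 1) rfl _ _).2 ⟨?_, ?_⟩
    · simp [hfst]
    · simp [hsnd]
      exact hz.symm
  have hπq : QuasiIso π :=
    Groth.DerivedCoh.KFlat.quasiIso_g_of_acyclic hS fun i => (Groth.FlatCxBase.quasiIso_iff_cone_acyclic ρ).1 hρ i
  refine ⟨Q', biprod.inl ≫ mappingCone.inr χ, π, by rw [Category.assoc, hπinr, biprod.inl_desc], hπq,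
    hπe, ⟨c, ?_⟩, fun i => hiso (homotopyCofiber.XIsoBiprod χ i (i + 1) rfl).symm
      (hsum (hRP _) (hEP i)), fun i => ?_⟩
  · rw [CochainComplex.isStrictlyLE_iff]
    exact fun i hi => ((biprod_isZero_iff _ _).2
      ⟨R.isZero_of_isStrictlyLE c (i + 1) (by lia), hEzero i hi⟩).of_iso
        (homotopyCofiber.XIsoBiprod χ i (i + 1) rfl)
  · let S := ShortComplex.mk ((biprod.inl ≫ mappingCone.inr χ : Q ⟶ Q').f i)
      (biprod.lift ((mappingCone.fst χ).1.v i (i + 1) rfl)
        ((mappingCone.snd χ).v i i (add_zero i) ≫ (biprod.snd : E ⟶ R₀).f i))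
      (by apply biprod.hom_ext <;> simp)
    let σ : S.Splitting :=
      { r := (mappingCone.snd χ).v i i (add_zero i) ≫ (biprod.fst : E ⟶ Q).f i
        s := biprod.desc ((mappingCone.inl χ).v (i + 1) i (by lia))
          ((biprod.inr : R₀ ⟶ E).f i ≫ (mappingCone.inr χ).f i)
        f_r := by simp [S]
        s_g := by
          refine biprod.hom_ext' _ _ (biprod.hom_ext _ _ ?_ ?_) (biprod.hom_ext _ _ ?_ ?_) <;> simp [S]
        id := by
          change (_ : (mappingCone χ).X i ⟶ (mappingCone χ).X i) = _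
          refine mappingCone.ext_from χ (i + 1) i rfl ?_ ?_
          · simp [S]
            exact (Category.comp_id _).symm
          · simp [S]
            rw [← Category.assoc ((biprod.fst : E ⟶ Q).f i), ← Category.assoc ((biprod.snd : E ⟶ R₀).f i),
              ← Preadditive.add_comp, ← comp_f, ← comp_f, ← add_f_apply, biprod.total,
              HomologicalComplex.id_f, Category.id_comp]
            exact (Category.comp_id _).symm }
    exact ⟨⟨σ.r, σ.f_r⟩, hiso ((cokernelIsCokernel _).coconePointUniqueUpToIso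
      σ.shortExact.gIsCokernel).symm (hsum (hRP _) (hR₀P i))⟩

end Groth.DerivedCoh.LeftRes
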